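import Cfsg.Agent.FS.N.L.Chk
import Cfsg.Agent.FS.Real.Tab

/-!
# S5288, the box `Low` (helper24, project FS)

`lowB W p`: the check on an entry; `low_of`: `Low dU34` from the lists of the levels up to `7`.
-/

set_option autoImplicit false

namespace Cfsg.Agent.FS.N.L

open Cfsg Cfsg.FusionSystem Cfsg.Agent.H752 Cfsg.Agent.FS.Th Cfsg.Agent.FS.Real
open M (sg sg_xor sg_inj el_sg)

section

variable {A : Type} [Group A] {D : PcD} {x : ℕ → A} {F : Sys A} {θ : MulAut A}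

theorem finAut [Finite A] : Finite (MulAut A) :=
  Finite.of_injective (fun α : MulAut A => (α : A → A)) DFunLike.coe_injective

theorem top_two [Finite A] (H : Gen D ⊤ x) {c : ℕ} (h : spV D (vm D) c 2 = true)
    (ho : Odd (orderOf θ)) : θ = 1 := by
  have := Fintype.ofFinite A
  let _ := chAct A
  exact (sp_of H h).eq_one col_smul (le2_of H (sp_len h)) ho

theorem top_three [Finite A] (H : Gen D ⊤ x) {c : ℕ} (h : spV D (vm D) c 3 = true)
    (ht : Top3 F) (ho : Odd (orderOf θ)) (hk : Keeps θ F) : Mp F ⊤ θ := by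
  have := Fintype.ofFinite A
  have := finAut (A := A)
  let _ := chAct A
  obtain ⟨α, h4, h5, h6⟩ := top3_iff.1 ht
  exact (sp_of H h).mem col_smul (le3_of H (sp_len h)) h4 h5 h6 ho (keeps_autF hk)

theorem index_ker {χ : A →* ℤˣ} {g : A} (h : χ g = -1) : χ.ker.index = 2 := by
  rw [Subgroup.index_ker, MonoidHom.range_eq_top.2 fun s => ?_, Subgroup.card_top, Nat.card_eq_fintype_card,
    Fintype.card_units_int]
  rcases Int.units_eq_one_or s with rfl | rfl
  exacts [⟨1, map_one χ⟩, ⟨g, h⟩]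

/-- two signs with the common kernel `V` -/
structure Bs (V : Subgroup A) (u w : A →* ℤˣ) : Prop where
  mem : ∀ g, g ∈ V ↔ u g = 1 ∧ w g = 1
  ex : ∀ s t, ∃ a, u a = s ∧ w a = t

theorem Bs.symm {V : Subgroup A} {u w : A →* ℤˣ} (h : Bs V u w) : Bs V w u :=
  ⟨fun g => (h.mem g).trans and_comm, fun s t => (h.ex t s).imp fun _ => And.symm⟩

theorem Bs.mul {V : Subgroup A} {u w : A →* ℤˣ} (h : Bs V u w) : Bs V u (u * w) := by
  refine ⟨fun g => (h.mem g).trans (and_congr_right fun e => by rw [MonoidHom.mul_apply, e, one_mul]), fun s t => ?_⟩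
  obtain ⟨a, h1, h2⟩ := h.ex s (s * t)
  exact ⟨a, h1, by rw [MonoidHom.mul_apply, h1, h2, ← mul_assoc, Int.units_mul_self, one_mul]⟩

theorem ch_mul_self (u w : A →* ℤˣ) : u * (u * w) = w := by
  ext g
  rw [MonoidHom.mul_apply, MonoidHom.mul_apply, ← mul_assoc, Int.units_mul_self, one_mul]

theorem Bs.three {V : Subgroup A} {u w y₀ y₁ y₂ : A →* ℤˣ} (h : Bs V u w) (h0 : y₀ = u ∨ y₀ = w ∨ y₀ = u * w)
    (h1 : y₁ = u ∨ y₁ = w ∨ y₁ = u * w) (h2 : y₂ = u ∨ y₂ = w ∨ y₂ = u * w) (e1 : y₀ ≠ y₁) (e2 : y₀ ≠ y₂)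
    (e3 : y₁ ≠ y₂) : Bs V y₀ y₁ ∧ y₂ = y₀ * y₁ := by
  have k1 := ch_mul_self u w
  have k2 : w * (u * w) = u := by rw [mul_comm u, ch_mul_self]
  have k3 : Bs V w (u * w) := mul_comm w u ▸ h.symm.mul
  rcases h0 with rfl | rfl | rfl <;> rcases h1 with rfl | rfl | rfl <;> rcases h2 with rfl | rfl | rfl <;>
    first
    | exact absurd rfl e1
    | exact absurd rfl e2
    | exact absurd rfl e3
    | exact ⟨h, rfl⟩
    | exact ⟨h.symm, mul_comm _ _⟩
    | exact ⟨h.mul, k1.symm⟩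
    | exact ⟨h.mul.symm, ((mul_comm _ _).trans k1).symm⟩
    | exact ⟨k3, k2.symm⟩
    | exact ⟨k3.symm, ((mul_comm _ _).trans k2).symm⟩

theorem u42_vm : vm dU42 = [0, 1, 2, 3, 4, 5, 6, 7] := by decide +kernel

theorem u42_sp : spV dU42 (vm dU42) 16777344 3 = true := by
  rw [u42_vm]
  decide +kernel

theorem u42_cls : cls dU42 (vm dU42) 16777344 = [2, 4, 6] := by
  rw [u42_vm]
  decide +kernel

theorem u42_hom : (homOk dU42 1 && homOk dU42 2 && homOk dU42 4) = true := by decide +kernel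

theorem u42_card : (sm (2 ^ dU42.n) fun a => bif pm dU42 2 a && pm dU42 4 a then 1 else 0) = 16 := by decide +kernel

theorem u42_chk : (allB 64 fun a => bif pm dU42 2 a && pm dU42 4 a then iv dU42 a else !iv dU42 a ||
    Nat.blt (sm (2 ^ dU42.n) fun b => bif iv dU42 b && cm dU42 a b then 1 else 0) 16) = true := by decide +kernel

/-- The case of `UT₄(2)`. -/
theorem top_u42 [Finite A] (H : Gen dU42 ⊤ x) (hF : F.IsSaturated 2) (hh : hyp F = ⊤) (ho : Odd (orderOf θ))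
    (hk : Keeps θ F) : Mp F ⊤ θ := by
  by_cases ht : Top3 F
  · exact top_three H u42_sp ht ho hk
  by_cases h1 : θ = 1
  · rw [h1]
    exact mp_id F le_rfl
  exfalso
  have := Fintype.ofFinite A
  let _ := chAct A
  have hh1 := u42_hom
  rw [Bool.and_eq_true, Bool.and_eq_true] at hh1
  obtain ⟨m, hm⟩ := ch_exists H hh1.1.1
  obtain ⟨u, hu⟩ := ch_exists H hh1.1.2
  obtain ⟨w, hw⟩ := ch_exists H hh1.2
  have hV : ∀ a, (pm dU42 2 a && pm dU42 4 a) = true ↔ el x dU42.n a ∈ u.ker ⊓ w.ker := fun a => by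
    rw [Bool.and_eq_true, hu.pm, hw.pm, Subgroup.mem_inf]
  have hel : ∀ g, ∃ a, a < 64 ∧ el x dU42.n a = g := fun g => (H.mem g).1 (Subgroup.mem_top g)
  have hB : Bs (u.ker ⊓ w.ker) u w := ⟨fun _ => Iff.rfl, fun s t => by
    rcases Int.units_eq_one_or s with rfl | rfl <;> rcases Int.units_eq_one_or t with rfl | rfl
    exacts [⟨_, hu 0, hw 0⟩, ⟨_, hu 4, hw 4⟩, ⟨_, hu 2, hw 2⟩, ⟨_, hu 6, hw 6⟩]⟩
  have hc : ∀ y : A →* ℤˣ, col y = 16777344 → y = u ∨ y = w ∨ y = u * w := fun y hy => by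
    obtain ⟨mu, k1, k2⟩ := mem_cls H hy
    rw [u42_cls] at k1
    simp only [List.mem_cons, List.not_mem_nil, or_false] at k1
    have k3 := hu.mul hw
    rw [show (2 ^^^ 4 : ℕ) = 6 by decide] at k3
    rcases k1 with rfl | rfl | rfl
    exacts [Or.inl (k2.unique H hu), Or.inr (Or.inl (k2.unique H hw)), Or.inr (Or.inr (k2.unique H k3))]
  obtain ⟨y, k1, k2, k3, k4⟩ := (sp_of H u42_sp).moves col_smul ho h1
  obtain ⟨k5, k6⟩ := hB.three (hc y k1) (hc _ ((col_smul θ y).trans k1))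
    (hc _ ((col_smul θ _).trans ((col_smul θ y).trans k1))) k2 k3 k4
  have k7 : ∀ (z : A →* ℤˣ) g, (θ • z) (θ g) = z g := fun z g => congrArg z (MulAut.inv_apply_self _ θ g)
  have k8 : ∀ g, y (θ g) = y g * (θ • y) g := fun g => by
    have e := k7 (θ • y) g
    rw [k6, MonoidHom.mul_apply, k7] at e
    rw [← e, mul_comm (y (θ g)), ← mul_assoc, Int.units_mul_self, one_mul]
  have k9 := k7 y
  generalize θ • y = z at k5 k8 k9
  obtain ⟨a, a1, a2⟩ := k5.ex 1 (-1)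
  have hcard : Nat.card (u.ker ⊓ w.ker : Subgroup A) = 16 :=
    (card_gen H (fun _ _ => Subgroup.mem_top _) fun a _ => hV a).trans u42_card
  have hsq : ∀ v ∈ u.ker ⊓ w.ker, v * v = 1 := fun v hv => by
    obtain ⟨b, hb, rfl⟩ := hel v
    have e := allB_spec u42_chk hb
    rw [(hV b).2 hv, cond_true] at e
    exact (iv_iff H hb).1 e
  have hcm : ∀ v ∈ u.ker ⊓ w.ker, ∀ v' ∈ u.ker ⊓ w.ker, v * v' = v' * v := fun v hv v' hv' => by
    rw [← inv_eq_of_mul_eq_one_right (hsq _ (Subgroup.mul_mem _ hv hv')), mul_inv_rev,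
      inv_eq_of_mul_eq_one_right (hsq v hv), inv_eq_of_mul_eq_one_right (hsq v' hv')]
  have b1 : y (θ a) = -1 := by rw [k8, a1, a2, one_mul]
  have b2 : z (θ a) = 1 := by rw [k9, a1]
  obtain ⟨m', hm', hm2⟩ : ∃ g, g ∈ u.ker ⊓ w.ker ∧ m g = -1 := ⟨_, (hV 1).1 rfl, hm 1⟩
  refine not_four (H.isPGroup.of_equiv Subgroup.topEquiv) hF hh ht hk hcard hsq (fun φ hφ v => ?_) (a := a)
    (fun g => ?_) (fun g => (k5.mem _).2 ⟨by rw [map_mul, Int.units_mul_self], by rw [map_mul, Int.units_mul_self]⟩)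
    ((k5.mem _).2 ⟨?_, ?_⟩) (M := m.ker) ?_ hm' (by rw [MonoidHom.mem_ker, hm2]; decide)
  · by_contra e
    obtain ⟨b, hb, e1⟩ := hel (φ v)
    have e2 := allB_spec u42_chk hb
    rw [Bool.eq_false_iff.2 (mt (hV b).1 (e1 ▸ e)), cond_false, (iv_iff H hb).2 (by
      rw [e1, ← map_mul, show v * v = 1 from Subtype.ext (hsq v v.2), map_one]), Bool.not_true, Bool.false_or,
      ← card_gen H (P := fun h => h * h = 1 ∧ φ v * h = h * φ v) (fun _ _ => Subgroup.mem_top _) fun c hc => by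
        rw [Bool.and_eq_true, iv_iff H hc, cm_iff H hb hc, e1], ← hcard] at e2
    refine absurd (blt_lt e2) (not_lt.2 (Nat.card_le_card_of_injective (fun t => ⟨φ t, ?_, ?_⟩) fun s t e3 =>
      hφ (congrArg Subtype.val e3)))
    · rw [← map_mul, show t * t = 1 from Subtype.ext (hsq t t.2), map_one]
    · rw [← map_mul, ← map_mul, show v * t = t * v from Subtype.ext (hcm v v.2 t t.2)]
  · simp only [k5.mem, map_mul, map_inv, a1, a2, b1, b2]
    rcases Int.units_eq_one_or (y g) with e | e <;> rcases Int.units_eq_one_or (z g) with e' | e' <;> rw [e, e'] <;>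
      decide
  · rw [map_mul, map_inv, map_mul, k8 (θ a), a1, b1, b2]
    decide
  · rw [map_mul, map_inv, map_mul, k9 (θ a), a2, b1, b2]
    decide
  · exact index_ker hm2

theorem u34_z : (allB 64 fun z => (anyB 64 fun u => !cm dU34 z u) ||
    anyB 64 fun a => anyB 64 fun b => Nat.beq (dU34.mul z (dU34.mul b a)) (dU34.mul a b)) = true := by decide +kernel

theorem u34_c : (allB 64 fun a => (allB 64 fun b => cm dU34 a b) || allB 64 fun u => !cm dU34 a u ||
    allB 64 fun w => !cm dU34 a w || cm dU34 u w) = true := by decide +kernel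

theorem u34_cw : cwN dU34 (fun _ => true) (fun _ => true) = 20972096 := by decide +kernel

theorem not_dec_u34 (H : Gen dU34 (hyp F) x) : ¬ Dec F := by
  have hel : ∀ g ∈ hyp F, ∃ a, a < 64 ∧ el x dU34.n a = g := fun g => (H.mem g).1
  refine not_dec_of rfl (fun z hz h => ?_) fun a ha b hb h u hu w hw h1 h2 => ?_
  · obtain ⟨z, z1, rfl⟩ := hel z hz
    have k := allB_spec u34_z z1
    rw [Bool.or_eq_true] at k
    rcases k with k | k
    · obtain ⟨u, u1, k⟩ := anyB_spec k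
      rw [(cm_iff H z1 u1).2 (h _ (H.el_mem u1))] at k
      cases k
    · obtain ⟨a, a1, k⟩ := anyB_spec k
      obtain ⟨b, b1, k⟩ := anyB_spec k
      refine ⟨_, H.el_mem a1, _, H.el_mem b1, ?_⟩
      rw [H.mul a1, ← beq_eq k, ← H.mul z1, ← H.mul b1]
      group
  · obtain ⟨a, a1, rfl⟩ := hel a ha
    obtain ⟨b, b1, rfl⟩ := hel b hb
    obtain ⟨u, u1, rfl⟩ := hel u hu
    obtain ⟨w, w1, rfl⟩ := hel w hw
    have k := allB_spec u34_c a1
    rw [Bool.or_eq_true] at k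
    rcases k with k | k
    · exact absurd ((cm_iff H a1 b1).1 (allB_spec k b1)) h
    · have k1 := allB_spec k u1
      rw [(cm_iff H a1 u1).2 h1, Bool.not_true, Bool.false_or] at k1
      have k2 := allB_spec k1 w1
      rw [(cm_iff H a1 w1).2 h2, Bool.not_true, Bool.false_or] at k2
      exact (cm_iff H u1 w1).1 k2

theorem hyp_le_ker (H : Gen D ⊤ x) {lam : ℕ} (hm : Mode D x lam F) (h0 : lam ≠ 0) {χ : A →* ℤˣ} (h : Ch D x lam χ) :
    hyp F ≤ χ.ker := by
  refine (hyperfocal_le_focal' F 2).trans (focal_le_of_focP F _ fun P f hf g hg => ?_)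
  obtain ⟨a, ha, rfl⟩ := (H.mem g).1 (Subgroup.mem_top g)
  obtain ⟨b, hb, e⟩ := (H.mem (f (el x D.n a))).1 (Subgroup.mem_top _)
  rw [MonoidHom.mem_ker, map_mul, map_inv, ← e, h, h, hm.2 h0 P f hf a b ha hb hg e.symm, inv_mul_cancel]

end

/-- what `Low` needs from an entry -/
def LowE (p : Ent) : Prop :=
  ∀ (A : Type) [Group A] [Finite A] (F : Sys A), F.IsSaturated 2 → Hit p F →
    (hyp F = ⊤ → (∃ x : ℕ → A, Gen dU34 ⊤ x) ∨ ∀ θ : MulAut A, Odd (orderOf θ) → Keeps θ F → Mp F ⊤ θ) ∧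
      ((∃ x : ℕ → A, Gen dU34 (hyp F) x) → R34 F)

/-- The check on an entry.  `W` packs the generators for `dU34` or `dU42` (`W0` for these presentations). -/
noncomputable def lowB (W : ℕ) (p : Ent) : Bool :=
  Nat.ble p.D.n 7 && homOk p.D p.lam &&
  (Nat.beq p.tag 2 || !Nat.beq (cwN p.D (pm p.D p.lam) (pm p.D p.lam)) 20972096) &&
  bif Nat.beq p.lam 0 then p.D.chg dU34 W || p.D.chg dU42 W || frL (vm p.D) fun V =>
    spV p.D V 0 2 || (Nat.beq p.tag 1 && V.any fun m => spV p.D V (colN p.D m) 3)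
  else anyB (2 ^ p.D.n) fun a => !pm p.D p.lam a

/-- the generators themselves -/
def W0 : ℕ := 34630287489

theorem lowE_of {W : ℕ} {p : Ent} (h : lowB W p = true) : LowE p := by
  rintro A _ _ F hF ⟨x, H, hm, ho⟩
  rw [lowB, Bool.and_eq_true, Bool.and_eq_true, Bool.and_eq_true] at h
  obtain ⟨⟨⟨h1, h2⟩, h3⟩, h4⟩ := h
  obtain ⟨χ, hχ⟩ := ch_exists H h2
  have := Fintype.ofFinite A
  have key : hyp F = χ.ker → (∃ x : ℕ → A, Gen dU34 (hyp F) x) → R34 F := fun e ⟨y, hy⟩ => by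
    rw [Bool.or_eq_true] at h3
    refine ho.2.2 (beq_eq (h3.resolve_right fun k => nbeq_ne k ?_))
    rw [← cw_eq H le_top le_top (fun a _ => hχ.pm a) fun a _ => hχ.pm a, ← e, ← u34_cw]
    exact cw_eq hy le_rfl le_rfl (fun a ha => ⟨fun _ => hy.el_mem ha, fun _ => rfl⟩)
      fun a ha => ⟨fun _ => hy.el_mem ha, fun _ => rfl⟩
  cases h0 : Nat.beq p.lam 0
  · rw [h0, cond_false] at h4
    obtain ⟨a, -, h5⟩ := anyB_spec h4
    have h6 := hyp_le_ker H hm (Nat.ne_of_beq_eq_false h0) hχ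
    have h7 : el x p.D.n a ∉ χ.ker := fun k => by
      rw [(hχ.pm a).2 k] at h5
      cases h5
    refine ⟨fun e => absurd (h6 (e ▸ Subgroup.mem_top _)) h7, fun ⟨y, hy⟩ => key ?_ ⟨y, hy⟩⟩
    refine Subgroup.eq_of_le_of_card_ge h6 ?_
    have h8 := χ.ker.card_mul_index
    have h9 : 2 ^ p.D.n ≤ 2 ^ 7 := Nat.pow_le_pow_right (by norm_num) (Nat.le_of_ble_eq_true h1)
    rw [index_ker ((Int.units_eq_one_or _).resolve_left h7), ← Subgroup.card_top (G := A), H.card] at h8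
    rw [hy.card, show dU34.n = 6 from rfl]
    omega
  · rw [h0, cond_true, Bool.or_eq_true, Bool.or_eq_true, frL_eq, Bool.or_eq_true, Bool.and_eq_true] at h4
    have h5 := beq_eq h0
    refine ⟨fun e => ?_, key ((hm.1 h5).trans (eq_top_iff.2 fun g _ => ?_).symm)⟩
    · rcases h4 with (k | k) | k | k
      · exact Or.inl ⟨_, H.change dU34_ok k⟩
      · exact Or.inr fun θ k1 k2 => top_u42 (H.change dU42_ok k) hF e k1 k2
      · exact Or.inr fun θ k1 _ => by
          rw [top_two H k k1]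
          exact mp_id F le_rfl
      · obtain ⟨m, -, k3⟩ := List.any_eq_true.1 k.2
        exact Or.inr fun θ k1 k2 => top_three H k3 (ho.2.1 (beq_eq k.1)) k1 k2
    · obtain ⟨a, -, rfl⟩ := (H.mem g).1 (Subgroup.mem_top g)
      rw [MonoidHom.mem_ker, hχ, h5, Nat.and_zero, ← Nat.xor_self 0, par_xor, Bool.xor_self]
      rfl

/-- **`Low` from the lists.** -/
theorem low_of (hD2 : BoxD2) (h : ∀ n ≤ 7, ∃ L, Lev n L ∧ ∀ p ∈ L, LowE p) : Low dU34 := by
  have key : ∀ (A : Type) [Group A] [Finite A], IsPGroup 2 A → Nat.card A ≤ 2 ^ 7 → ∀ F : Sys A, Hy2 F →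
      ∃ p, LowE p ∧ Hit p F := by
    intro A _ _ hA hc F hF
    have : Fact (Nat.Prime 2) := ⟨Nat.prime_two⟩
    obtain ⟨n, hn⟩ := IsPGroup.iff_card.1 hA
    obtain ⟨L, h1, h2⟩ := h n ((Nat.pow_le_pow_iff_right (by norm_num)).1 (hn ▸ hc))
    obtain ⟨p, h3, h4⟩ := h1 A hn F hF
    exact ⟨p, h2 p h3, h4⟩
  refine ⟨fun A _ _ hA hc F hF e => ?_, fun A _ _ hA hc F hF ⟨x, hx⟩ => ?_⟩
  · by_cases hd : Dec F
    · obtain ⟨T, R, -, -, -, -, h1⟩ := hD2 A hA (hc.trans (by norm_num)) F hF hd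
      exact Or.inr fun θ k1 k2 => (mp_id F le_rfl).congr fun g _ => h1 hc θ k1 k2 g (e ▸ Subgroup.mem_top g)
    · obtain ⟨p, h1, h2⟩ := key A hA hc F ⟨hF, hd⟩
      exact (h1 A F hF.sat h2).1 e
  · obtain ⟨p, h1, h2⟩ := key A hA hc F ⟨hF, not_dec_u34 hx⟩
    exact (h1 A F hF.sat h2).2 ⟨x, hx⟩

end Cfsg.Agent.FS.N.L
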