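import Cfsg.Agent.FS.N.L.Fus
import Cfsg.Agent.FS.N.M.Cert

/-!
# S5288, the box `Low`: checks on presentations (helper24, project FS)
-/

set_option autoImplicit false

namespace Cfsg.Agent.FS.N.L

open Cfsg Cfsg.FusionSystem Cfsg.Agent.H752 Cfsg.Agent.FS.Th Cfsg.Agent.FS.Real
open M (sg sg_xor sg_inj el_sg)

/-- bounded sum -/
noncomputable def sm (N : ℕ) (f : ℕ → ℕ) : ℕ := Nat.rec 0 (fun k r => Nat.add (f k) r) N

theorem sm_eq (f : ℕ → ℕ) : ∀ N, sm N f = ∑ a ∈ Finset.range N, f a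
  | 0 => rfl
  | N + 1 => by rw [Finset.sum_range_succ, ← sm_eq f N, add_comm (sm N f)]; rfl

theorem sm_congr {N : ℕ} {f g : ℕ → ℕ} (h : ∀ a < N, f a = g a) : sm N f = sm N g := by
  rw [sm_eq, sm_eq]
  exact Finset.sum_congr rfl fun a ha => h a (Finset.mem_range.1 ha)

/-- the elements commute -/
noncomputable def cm (D : PcD) (a b : ℕ) : Bool := Nat.beq (D.mul a b) (D.mul b a)

/-- the square is trivial -/
noncomputable def iv (D : PcD) (a : ℕ) : Bool := Nat.beq (D.mul a a) 0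

/-- the weight of an element -/
noncomputable def wt (D : PcD) (q : ℕ → Bool) (a : ℕ) : ℕ :=
  Nat.mul (sm (2 ^ D.n) fun b => bif q b && cm D a b then 1 else 0) (bif iv D a then 32768 else 1)

/-- the sum of the weights -/
noncomputable def cwN (D : PcD) (p q : ℕ → Bool) : ℕ := sm (2 ^ D.n) fun a => bif p a then wt D q a else 0

/-- the kernel of a parity -/
def pm (D : PcD) (mu a : ℕ) : Bool := !Pc.par D.n (a &&& mu)

/-- the parity is a homomorphism -/
noncomputable def homOk (D : PcD) (mu : ℕ) : Bool :=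
  (allB D.n fun i => pm D mu (D.rel i i)) &&
    allB D.n fun j => allB j fun i => !xor (Pc.par D.n (D.rel j i &&& mu)) (tb mu j)

/-- all the signs -/
noncomputable def vm (D : PcD) : List ℕ := (List.range (2 ^ D.n)).filter (homOk D)

/-- the colour of a sign -/
noncomputable def colN (D : PcD) (mu : ℕ) : ℕ := cwN D (pm D mu) fun _ => true

/-- the signs of a colour -/
noncomputable def cls (D : PcD) (V : List ℕ) (c : ℕ) : List ℕ := V.filter fun mu => Nat.beq (colN D mu) c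

/-- the signs of the small classes and of the class `c` -/
noncomputable def gd (D : PcD) (V : List ℕ) (c : ℕ) : List ℕ :=
  V.filter fun mu => Nat.ble (cls D V (colN D mu)).length 2 || Nat.beq (colN D mu) c

/-- evaluate a list -/
noncomputable def frL (l : List ℕ) : (List ℕ → Bool) → Bool :=
  List.rec (fun f => f []) (fun a _ ih f => force a fun a => ih fun l => f (a :: l)) l

theorem frL_eq (l : List ℕ) : ∀ f, frL l f = f l := by
  induction l with
  | nil => exact fun _ => rfl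
  | cons a l ih => exact fun f => (force_eq a fun a => frL l fun l => f (a :: l)).trans (ih fun l => f (a :: l))

/-- the class `c` has at most `k` signs, and these signs span -/
noncomputable def spV (D : PcD) (V : List ℕ) (c k : ℕ) : Bool :=
  Nat.ble (cls D V c).length k && frL (gd D V c) fun G =>
    V.all fun mu => G.any fun a => G.any fun b => G.any fun d => Nat.beq mu (a ^^^ b ^^^ d)

theorem allB_of {N : ℕ} {p : ℕ → Bool} (h : ∀ k < N, p k = true) : allB N p = true := by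
  induction N with
  | zero => rfl
  | succ N ih =>
    change (p N && allB N p) = true
    rw [h N N.lt_succ_self, ih fun k hk => h k (hk.trans N.lt_succ_self)]
    rfl

theorem par_xor (a b : ℕ) : ∀ r, Pc.par r (a ^^^ b) = xor (Pc.par r a) (Pc.par r b)
  | 0 => rfl
  | r + 1 => by
    change xor ((a ^^^ b).testBit r) (Pc.par r (a ^^^ b)) = xor (xor (a.testBit r) (Pc.par r a))
      (xor (b.testBit r) (Pc.par r b))
    rw [par_xor a b r, Nat.testBit_xor]
    cases a.testBit r <;> cases b.testBit r <;> cases Pc.par r a <;> cases Pc.par r b <;> rfl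

theorem exists_bits (f : ℕ → Bool) (n : ℕ) : ∃ mu, mu < 2 ^ n ∧ ∀ i < n, tb mu i = f i :=
  ⟨Nat.ofBits fun i : Fin n => f i, Nat.ofBits_lt_two_pow _, fun i hi => by rw [tb_eq, Nat.testBit_ofBits_lt _ _ hi]⟩

theorem two_of_len {l : List ℕ} (h : l.length ≤ 2) {a b c : ℕ} (ha : a ∈ l) (hb : b ∈ l) (hc : c ∈ l) :
    a = b ∨ a = c ∨ b = c := by
  rcases l with _ | ⟨u, _ | ⟨v, _ | ⟨w, l⟩⟩⟩
  · cases ha
  · simp only [List.mem_singleton] at ha hb hc
    omega
  · simp only [List.mem_cons, List.not_mem_nil, or_false] at ha hb hc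
    omega
  · simp only [List.length_cons] at h
    omega

theorem three_of_len {l : List ℕ} (h : l.length ≤ 3) {a b c d : ℕ} (ha : a ∈ l) (hb : b ∈ l) (hc : c ∈ l)
    (hd : d ∈ l) : a = b ∨ a = c ∨ b = c ∨ d = a ∨ d = b ∨ d = c := by
  rcases l with _ | ⟨u, _ | ⟨v, _ | ⟨w, _ | ⟨t, l⟩⟩⟩⟩
  · cases ha
  · simp only [List.mem_singleton] at ha hb hc hd
    omega
  · simp only [List.mem_cons, List.not_mem_nil, or_false] at ha hb hc hd
    omega
  · simp only [List.mem_cons, List.not_mem_nil, or_false] at ha hb hc hd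
    omega
  · simp only [List.length_cons] at h
    omega

section

variable {A : Type} [Group A] {D : PcD} {x : ℕ → A} {S : Subgroup A}

theorem cm_iff (H : Gen D S x) {a b : ℕ} (ha : a < D.N) (hb : b < D.N) :
    cm D a b = true ↔ el x D.n a * el x D.n b = el x D.n b * el x D.n a := by
  rw [H.mul ha, H.mul hb]
  exact ⟨fun h => congrArg _ (beq_eq h), fun h => Nat.beq_eq.mpr (H.inj (D.mul_lt ha _) (D.mul_lt hb _) h)⟩

theorem iv_iff (H : Gen D S x) {a : ℕ} (ha : a < D.N) : iv D a = true ↔ el x D.n a * el x D.n a = 1 := by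
  rw [H.mul ha]
  exact ⟨fun h => by rw [beq_eq h, el_nil], fun h => Nat.beq_eq.mpr (H.eq_zero (D.mul_lt ha _) h)⟩

theorem cond_iff {b : Bool} {P : Prop} [Decidable P] (h : b = true ↔ P) (u v : ℕ) :
    (if P then u else v) = bif b then u else v := by
  cases b
  · exact if_neg fun k => Bool.false_ne_true (h.2 k)
  · exact if_pos (h.1 rfl)

/-- `χ` is the sign given by `mu` -/
def Ch (D : PcD) (x : ℕ → A) (mu : ℕ) (χ : A →* ℤˣ) : Prop := ∀ a, χ (el x D.n a) = sg (Pc.par D.n (a &&& mu))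

theorem sg_eq_one {b : Bool} : (!b) = true ↔ sg b = 1 := by cases b <;> decide

theorem Ch.pm {mu : ℕ} {χ : A →* ℤˣ} (h : Ch D x mu χ) (a : ℕ) : pm D mu a = true ↔ el x D.n a ∈ χ.ker := by
  rw [MonoidHom.mem_ker, h]
  exact sg_eq_one

theorem Ch.unique (H : Gen D ⊤ x) {mu : ℕ} {χ χ' : A →* ℤˣ} (h : Ch D x mu χ) (h' : Ch D x mu χ') : χ = χ' := by
  ext g
  obtain ⟨a, -, rfl⟩ := (H.mem g).1 (Subgroup.mem_top g)
  rw [h, h']

theorem Ch.mul {m m' : ℕ} {χ χ' : A →* ℤˣ} (h : Ch D x m χ) (h' : Ch D x m' χ') : Ch D x (m ^^^ m') (χ * χ') :=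
  fun a => by rw [MonoidHom.mul_apply, h, h', Nat.and_xor_distrib_left, par_xor, sg_xor]

theorem ch_exists (H : Gen D ⊤ x) {mu : ℕ} (h : homOk D mu = true) : ∃ χ, Ch D x mu χ := by
  rw [homOk, Bool.and_eq_true] at h
  have hR : Rel D fun i => sg (tb mu i) := by
    refine ⟨fun i hi => ?_, fun i j hij hj => ?_⟩
    · rw [el_sg, sg_eq_one.1 (allB_spec h.1 hi), Int.units_mul_self]
    · have k1 := allB_spec (allB_spec h.2 hj) hij
      rw [el_sg, mul_comm]
      revert k1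
      cases Pc.par D.n (D.rel j i &&& mu) <;> cases tb mu j <;> simp
  choose ix h1 h2 using fun g => (H.mem g).1 (Subgroup.mem_top g)
  have h3 : ∀ g k, ix (g * k) = D.mul (ix g) (ix k) := fun g k =>
    H.inj (h1 _) (D.mul_lt (h1 g) _) (by rw [← H.mul (h1 g), h2, h2, h2])
  refine ⟨MonoidHom.mk' (fun g => el (fun i => sg (tb mu i)) D.n (ix g)) fun g k => ?_, fun a => ?_⟩
  · rw [h3, hR.mul_sound H.ok (h1 g)]
  · have h4 : ∀ {G : Type} [Monoid G] (y : ℕ → G), el y D.n (a % 2 ^ D.n) = el y D.n a := fun y =>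
      el_congr y _ fun k hk => by rw [Nat.testBit_mod_two_pow, decide_eq_true hk, Bool.true_and]
    rw [MonoidHom.mk'_apply, ← el_sg, ← h4 x, H.inj (b := a % 2 ^ D.n) (h1 _) (Nat.mod_lt _ D.N_pos) (h2 _), h4]

theorem ch_of (H : Gen D S x) (χ : A →* ℤˣ) : ∃ mu ∈ vm D, Ch D x mu χ := by
  obtain ⟨mu, h1, h2⟩ := exists_bits (fun i => decide (χ (x i) = -1)) D.n
  have h3 : ∀ i < D.n, χ (x i) = sg (tb mu i) := fun i hi => by
    rw [h2 i hi]
    rcases Int.units_eq_one_or (χ (x i)) with h | h <;> rw [h] <;> rfl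
  have h4 : Ch D x mu χ := fun a => by rw [map_el, ← el_sg, el_congr_x a _ h3]
  refine ⟨mu, List.mem_filter.2 ⟨List.mem_range.2 h1, ?_⟩, h4⟩
  rw [homOk, Bool.and_eq_true]
  refine ⟨allB_of fun i hi => (h4.pm _).2 ?_, allB_of fun j hj => allB_of fun i hi => ?_⟩
  · rw [← H.rel.sq i hi, MonoidHom.mem_ker, map_mul, Int.units_mul_self]
  · have h5 := congrArg χ (H.rel.cj i j hi hj)
    rw [map_mul, map_mul, mul_comm, mul_left_cancel_iff, h4, h3 j hj] at h5
    rw [← sg_inj h5, Bool.xor_self]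
    rfl

variable [Fintype A]

theorem sum_gen (H : Gen D S x) (w : A → ℕ) (hw : ∀ g, g ∉ S → w g = 0) :
    ∑ g, w g = sm (2 ^ D.n) fun a => w (el x D.n a) := by
  classical
  rw [sm_eq, ← Finset.sum_image (s := Finset.range (2 ^ D.n)) (g := el x D.n) fun a ha b hb e =>
    H.inj (Finset.mem_range.1 ha) (Finset.mem_range.1 hb) e]
  refine (Finset.sum_subset (Finset.subset_univ _) fun g _ hg => hw g fun h => hg ?_).symm
  obtain ⟨a, ha, rfl⟩ := (H.mem g).1 h
  exact Finset.mem_image_of_mem _ (Finset.mem_range.2 ha)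

theorem card_gen (H : Gen D S x) {P : A → Prop} (hP : ∀ g, P g → g ∈ S) {p : ℕ → Bool}
    (hp : ∀ a < D.N, p a = true ↔ P (el x D.n a)) : Nat.card {g // P g} = sm (2 ^ D.n) fun a => bif p a then 1 else 0 := by
  classical
  rw [Nat.card_eq_fintype_card, Fintype.card_subtype, Finset.card_filter,
    sum_gen H _ fun g hg => if_neg fun h => hg (hP g h)]
  exact sm_congr fun a ha => cond_iff (hp a ha) _ _

open Classical in
/-- the invariant of a pair of subgroups -/
noncomputable def cw (K K' : Subgroup A) : ℕ :=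
  ∑ g, if g ∈ K then Nat.card {h // h ∈ K' ∧ g * h = h * g} * (if g * g = 1 then 32768 else 1) else 0

theorem cw_eq (H : Gen D S x) {K K' : Subgroup A} (hK : K ≤ S) (hK' : K' ≤ S) {p q : ℕ → Bool}
    (hp : ∀ a < D.N, p a = true ↔ el x D.n a ∈ K) (hq : ∀ a < D.N, q a = true ↔ el x D.n a ∈ K') :
    cw K K' = cwN D p q := by
  classical
  rw [cw, sum_gen H _ fun g hg => if_neg fun h => hg (hK h)]
  refine sm_congr fun a ha => ?_
  rw [cond_iff (hp a ha), cond_iff (iv_iff H ha), card_gen H (fun g h => hK' h.1) (p := fun b => q b && cm D a b)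
    fun b hb => by rw [Bool.and_eq_true, hq b hb, cm_iff H ha hb]]
  rfl

theorem cw_comap (α : MulAut A) (K : Subgroup A) : cw (K.comap α.toMonoidHom) ⊤ = cw K ⊤ := by
  classical
  rw [cw, cw]
  refine Eq.trans ?_ (Equiv.sum_comp α.toEquiv _)
  refine Finset.sum_congr rfl fun g _ => if_congr Iff.rfl ?_ rfl
  congr 1
  · refine Nat.card_congr (α.toEquiv.subtypeEquiv fun h => and_congr Iff.rfl ?_)
    change _ ↔ α g * α h = α h * α g
    rw [← map_mul, ← map_mul, α.injective.eq_iff]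
  · refine if_congr ?_ rfl rfl
    change _ ↔ α g * α g = 1
    rw [← map_mul, map_eq_one_iff _ α.injective]

/-- the colour of a sign -/
noncomputable def col (χ : A →* ℤˣ) : ℕ := cw χ.ker ⊤

theorem col_smul (α : MulAut A) (χ : A →* ℤˣ) : letI := chAct A; col (α • χ) = col χ := cw_comap α⁻¹ χ.ker

theorem Ch.col (H : Gen D ⊤ x) {mu : ℕ} {χ : A →* ℤˣ} (h : Ch D x mu χ) : col χ = colN D mu :=
  cw_eq H le_top le_top (fun a _ => h.pm a) fun _ _ => ⟨fun _ => Subgroup.mem_top _, fun _ => rfl⟩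

theorem mem_cls (H : Gen D ⊤ x) {c : ℕ} {χ : A →* ℤˣ} (h : col χ = c) : ∃ mu ∈ cls D (vm D) c, Ch D x mu χ := by
  obtain ⟨mu, h1, h2⟩ := ch_of H χ
  exact ⟨mu, List.mem_filter.2 ⟨h1, Nat.beq_eq.mpr (by rw [← h2.col H, h])⟩, h2⟩

theorem le2_of (H : Gen D ⊤ x) {c : ℕ} (h : (cls D (vm D) c).length ≤ 2) : Le2 (col (A := A)) c := by
  intro u v w hu hv hw
  obtain ⟨a, a1, a2⟩ := mem_cls H hu
  obtain ⟨b, b1, b2⟩ := mem_cls H hv
  obtain ⟨d, d1, d2⟩ := mem_cls H hw
  rcases two_of_len h a1 b1 d1 with rfl | rfl | rfl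
  exacts [Or.inl (a2.unique H b2), Or.inr (Or.inl (a2.unique H d2)), Or.inr (Or.inr (b2.unique H d2))]

theorem le3_of (H : Gen D ⊤ x) {c : ℕ} (h : (cls D (vm D) c).length ≤ 3) : Le3 (col (A := A)) c := by
  intro u v w t hu hv hw ht
  obtain ⟨a, a1, a2⟩ := mem_cls H hu
  obtain ⟨b, b1, b2⟩ := mem_cls H hv
  obtain ⟨d, d1, d2⟩ := mem_cls H hw
  obtain ⟨e, e1, e2⟩ := mem_cls H ht
  rcases three_of_len h a1 b1 d1 e1 with rfl | rfl | rfl | rfl | rfl | rfl
  exacts [Or.inl (a2.unique H b2), Or.inr (Or.inl (a2.unique H d2)), Or.inr (Or.inr (Or.inl (b2.unique H d2))),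
    Or.inr (Or.inr (Or.inr (Or.inl (e2.unique H a2)))), Or.inr (Or.inr (Or.inr (Or.inr (Or.inl (e2.unique H b2))))),
    Or.inr (Or.inr (Or.inr (Or.inr (Or.inr (e2.unique H d2)))))]

theorem sp_len {V : List ℕ} {c k : ℕ} (h : spV D V c k = true) : (cls D V c).length ≤ k := by
  rw [spV, Bool.and_eq_true] at h
  exact Nat.le_of_ble_eq_true h.1

theorem sp_of (H : Gen D ⊤ x) {c k : ℕ} (h : spV D (vm D) c k = true) :
    letI := chAct A; Sp (MulAut A) (col (A := A)) c := by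
  rw [spV, Bool.and_eq_true, frL_eq] at h
  replace h := h.2
  intro α hα
  have key : ∀ m ∈ gd D (vm D) c, ∃ χ, Ch D x m χ ∧ ∀ g, χ (α⁻¹ g) = χ g := fun m hm => by
    obtain ⟨h1, h2⟩ := List.mem_filter.1 hm
    obtain ⟨χ, h3⟩ := ch_exists H (List.mem_filter.1 h1).2
    refine ⟨χ, h3, fun g => DFunLike.congr_fun (hα χ ?_) g⟩
    rw [Bool.or_eq_true] at h2
    rw [h3.col H]
    exact h2.imp (fun k => le2_of H (Nat.le_of_ble_eq_true k)) beq_eq
  have hA : IsPGroup 2 A := H.isPGroup.of_equiv Subgroup.topEquiv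
  obtain ⟨k, hk⟩ := tw2_of_ch hA (α := α⁻¹) fun χ g => by
    obtain ⟨mu, h1, h2⟩ := ch_of H χ
    obtain ⟨a, a1, h3⟩ := List.any_eq_true.1 (List.all_eq_true.1 h mu h1)
    obtain ⟨b, b1, h4⟩ := List.any_eq_true.1 h3
    obtain ⟨d, d1, h5⟩ := List.any_eq_true.1 h4
    obtain ⟨u, u1, u2⟩ := key a a1
    obtain ⟨v, v1, v2⟩ := key b b1
    obtain ⟨w, w1, w2⟩ := key d d1
    rw [beq_eq h5] at h2
    rw [h2.unique H ((u1.mul v1).mul w1), MonoidHom.mul_apply, MonoidHom.mul_apply, u2, v2, w2]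
    rfl
  exact ⟨k, by rwa [inv_pow, inv_eq_one] at hk⟩

end

end Cfsg.Agent.FS.N.L
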