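import Cfsg.Agent.FS.N.Red
import Cfsg.Agent.FS.N.L.Abs
import Cfsg.Agent.FS.Th.Thompson
import Cfsg.Agent.FS.Th.Viol
import Cfsg.Agent.FS.Th.Loc
import Cfsg.Agent.FS.Th.Level
import Cfsg.Agent.H193.KS.Free

/-!
# S5288, the box `Low`: the fusion lemmas (helper24, project FS)
-/

set_option autoImplicit false

namespace Cfsg.Agent.FS.N.L

open Cfsg Cfsg.FusionSystem Cfsg.Agent.H752 Cfsg.Agent.FS.Th Cfsg.Agent.FS.Real

variable {A : Type} [Group A]

/-- `Aut_F(A)` -/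
def autF (F : Sys A) : Subgroup (MulAut A) where
  carrier := {α | Mp F ⊤ α}
  mul_mem' {a b} ha hb := Mp.comp (f := b) (g := a) hb ha fun _ _ => Subgroup.mem_top _
  one_mem' := mp_id F le_rfl
  inv_mem' {a} ha := Mp.symm ha fun y _ => ⟨a⁻¹ y, Subgroup.mem_top _, MulAut.apply_inv_self _ _ _, rfl⟩

variable {F : Sys A} {θ : MulAut A}

theorem keeps_autF (h : Keeps θ F) : ∀ α ∈ autF F, θ * α * θ⁻¹ ∈ autF F := fun α hα => by
  have h1 := h ⊤ α (θ * α * θ⁻¹ : MulAut A) (fun x _ => by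
    rw [MulAut.mul_apply, MulAut.mul_apply, MulAut.inv_apply_self]) hα
  rwa [Subgroup.map_top_of_surjective _ θ.surjective] at h1

theorem exists_autF [Finite A] {f : A → A} (h : Mp F ⊤ f) : ∃ α ∈ autF F, ∀ x, α x = f x := by
  let φ : A →* A := MonoidHom.mk' f fun x y => h.mul (Subgroup.mem_top x) (Subgroup.mem_top y)
  have h1 : Function.Bijective φ := Finite.injective_iff_bijective.1 fun x y e =>
    h.inj (Subgroup.mem_top x) (Subgroup.mem_top y) e
  exact ⟨MulEquiv.ofBijective φ h1, h, fun _ => rfl⟩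

theorem iterate_aut (α : MulAut A) (n : ℕ) (x : A) : (α : A → A)^[n] x = (α ^ n) x := by
  induction n generalizing x with
  | zero => rfl
  | succ n ih => rw [pow_succ, Function.iterate_succ_apply, ih, MulAut.mul_apply]

theorem top3_iff [Finite A] : Top3 F ↔ ∃ α ∈ autF F, Odd (orderOf α) ∧ α ≠ 1 := by
  constructor
  · rintro ⟨f, ⟨h1, -, k, h2, h3⟩, x, hx⟩
    obtain ⟨α, h4, h5⟩ := exists_autF h1
    obtain rfl : f = α := funext fun y => (h5 y).symm
    refine ⟨α, h4, h2.of_dvd_nat (orderOf_dvd_of_pow_eq_one (MulEquiv.ext fun y => ?_)), fun e => hx (by rw [e]; rfl)⟩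
    rw [← iterate_aut, h3 y (Subgroup.mem_top y)]
    rfl
  · rintro ⟨α, h1, h2, h3⟩
    refine ⟨α, ⟨h1, fun _ _ => Subgroup.mem_top _, _, h2, fun x _ => by rw [iterate_aut, pow_orderOf_eq_one]; rfl⟩, ?_⟩
    by_contra h
    push Not at h
    exact h3 (MulEquiv.ext h)

theorem tw2_of_not_top3 [Finite A] (h : ¬ Top3 F) {α : MulAut A} (hα : α ∈ autF F) : Tw2 α := by
  have : Finite (MulAut A) := Finite.of_injective (fun α : MulAut A => (α : A → A)) DFunLike.coe_injective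
  obtain ⟨k, m, h1, h2⟩ := Nat.exists_eq_two_pow_mul_odd (orderOf_pos α).ne'
  refine ⟨k, ?_⟩
  by_contra h3
  refine h (top3_iff.2 ⟨_, (autF F).pow_mem hα (2 ^ k), h1.of_dvd_nat (orderOf_dvd_of_pow_eq_one ?_), h3⟩)
  rw [← pow_mul, ← h2, pow_orderOf_eq_one]

/-- The case of `UT₄(2)`. -/
theorem not_four [Finite A] (hA : IsPGroup 2 A) (hF : F.IsSaturated 2) (hh : hyp F = ⊤) (hn : ¬ Top3 F)
    (hk : Keeps θ F) {V : Subgroup A} [V.Normal] (hV : Nat.card V = 16) (hsq : ∀ v ∈ V, v * v = 1)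
    (hwc : ∀ φ : V →* A, Function.Injective φ → ∀ v, φ v ∈ V) {a : A}
    (hcov : ∀ g, g ∈ V ∨ a⁻¹ * g ∈ V ∨ (θ a)⁻¹ * g ∈ V ∨ (a * θ a)⁻¹ * g ∈ V) (h2 : ∀ g, g * g ∈ V)
    (h3 : (a * θ a)⁻¹ * θ (θ a) ∈ V) {M : Subgroup A} (hM : M.index = 2) {v : A} (hv : v ∈ V) (hvM : v ∉ M) :
    False := by
  have : Fact (Nat.Prime 2) := ⟨Nat.prime_two⟩
  have hS : IsPGroup 2 (⊤ : Subgroup A) := hA.to_subgroup _
  have hN := ‹V.Normal›
  have hinv : ∀ u ∈ V, u⁻¹ = u := fun u hu => inv_eq_of_mul_eq_one_right (hsq u hu)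
  have hc : ∀ u ∈ V, ∀ w ∈ V, u * w = w * u := fun u hu w hw => by
    rw [← hinv _ (V.mul_mem hu hw), mul_inv_rev, hinv u hu, hinv w hw]
  have hB : Nat.card (MulAut V) = 20160 := by
    let _ : CommGroup V := { (inferInstance : Group V) with mul_comm := fun x y => Subtype.ext (hc _ x.2 _ y.2) }
    exact H193.KS.card_aut (fun x => Subtype.ext (by rw [pow_two]; exact hsq _ x.2)) hV
  have : Finite (MulAut V) := Nat.finite_of_card_ne_zero (by rw [hB]; norm_num)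
  have hfn : F.IsFullyNormalized V := isFullyNormalized_of_normal F le_top fun s _ x hx => hN.conj_mem x hx s
  have hmp : ∀ f, Mp F V f → ∀ x ∈ V, f x ∈ V := by
    rintro f ⟨φ, h4, h5⟩ x hx
    rw [← h5 x hx]
    exact hwc φ (F.injective_of_mem h4) _
  let c : A →* MulAut V := MulAut.conjNormal
  have hcj : ∀ g, Cj g (c g) := fun g x => MulAut.conjNormal_apply g x
  have hc1 : ∀ g ∈ V, c g = 1 := fun g hg => MulEquiv.ext fun x => Subtype.ext (by
    rw [hcj g x, hc g hg x x.2, mul_inv_cancel_right]; rfl)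
  have hce : ∀ g h, g⁻¹ * h ∈ V → c h = c g := fun g h e => by
    rw [← mul_inv_cancel_left g h, map_mul, hc1 _ e, mul_one]
  have hT : ∀ t, t ∈ autInducedBy ⊤ V ↔ ∃ g, t = c g := fun t =>
    mem_autTop_iff.trans ⟨fun ⟨g, h⟩ => ⟨g, h.unique (hcj g)⟩, fun ⟨g, h⟩ => ⟨g, h ▸ hcj g⟩⟩
  have hθV : ∀ x ∈ V, θ x ∈ V := fun x hx =>
    hwc (θ.toMonoidHom.comp V.subtype) (θ.injective.comp V.subtype_injective) ⟨x, hx⟩
  let φ : V →* V := (θ.toMonoidHom.comp V.subtype).codRestrict V fun x => hθV x x.2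
  have hφ : Function.Bijective φ := Finite.injective_iff_bijective.1 fun x y e =>
    Subtype.ext (θ.injective (congrArg Subtype.val e))
  let τ : MulAut V := MulEquiv.ofBijective φ hφ
  have hτ : ∀ x : V, ((τ x : V) : A) = θ x := fun _ => rfl
  have hτc : ∀ g, τ * c g * τ⁻¹ = c (θ g) := fun g => by
    rw [mul_inv_eq_iff_eq_mul]
    refine MulEquiv.ext fun x => Subtype.ext ?_
    rw [MulAut.mul_apply, MulAut.mul_apply, hτ, hcj, hcj, hτ, map_mul, map_mul, map_inv]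
  have hsq' : ∀ g, c g * c g = 1 := fun g => by rw [← map_mul, hc1 _ (h2 g)]
  have hle : F.autGroup V ≤ autInducedBy ⊤ V := by
    refine le_of_four hB (H802.autInducedBy_le_autGroup F le_top)
      (H802.isFullyAutomized_of_isFullyNormalized hS hF hfn).2 (hsq' a) (hsq' (θ a)) ?_ (fun t => ?_)
      (fun l hl hl' => ?_) (τ := τ) (fun l hl => ?_) (hτc a) (by rw [hτc, hce _ _ h3, map_mul])
    · have e1 := hsq' (a * θ a)
      rw [map_mul] at e1
      rw [← inv_eq_of_mul_eq_one_right e1, mul_inv_rev, inv_eq_of_mul_eq_one_right (hsq' a),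
        inv_eq_of_mul_eq_one_right (hsq' (θ a))]
    · rw [hT, ← map_mul]
      constructor
      · rintro ⟨g, rfl⟩
        rcases hcov g with h | h | h | h
        exacts [Or.inl (hc1 g h), Or.inr (Or.inl (hce _ _ h)), Or.inr (Or.inr (Or.inl (hce _ _ h))),
          Or.inr (Or.inr (Or.inr (hce _ _ h)))]
      · rintro (h | h | h | h)
        exacts [⟨1, by rw [h, map_one]⟩, ⟨_, h⟩, ⟨_, h⟩, ⟨_, h⟩]
    · obtain ⟨k, k1, k2⟩ := mp_extend_of_fullyCentralized hS hF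
        (H802.isFullyCentralized_of_isFullyNormalized hS hF hfn) (mp_fn le_top hl)
        (fun y => ⟨fun hy => ⟨_, fn_mem l⁻¹ hy, fn_fn_inv l hy⟩, fun ⟨x, hx, e⟩ => e ▸ fn_mem l hx⟩) le_top le_rfl
        fun g _ => ⟨fun x hx => hN.conj_mem x hx g, by
          obtain ⟨h, e⟩ := (hT _).1 (hl' _ ((hT _).2 ⟨g, rfl⟩))
          refine ⟨h, Subgroup.mem_top _, fun x hx => ?_⟩
          rw [← (hcj g).fn hx, ← fn_mul _ _ hx, ← (hcj h).fn (fn_mem l hx), ← fn_mul _ _ hx, ← e, inv_mul_cancel_right]⟩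
      obtain ⟨α, k3, k4⟩ := exists_autF k1
      obtain ⟨n, hn'⟩ := tw2_of_not_top3 hn k3
      refine mem_autInducedBy_of_normalizes hS hF hfn hl hl' (k := n) ?_
      have k5 : ∀ m (x : V), (((l ^ m) x : V) : A) = (α ^ m) x := by
        intro m
        induction m with
        | zero => exact fun _ => rfl
        | succ m ih =>
          intro x
          rw [pow_succ, pow_succ, MulAut.mul_apply, MulAut.mul_apply, ih, k4, k2 _ x.2, fn_apply l x.2]
      rw [show l ^ 2 ^ n = 1 from MulEquiv.ext fun x => Subtype.ext (by rw [k5, hn']; rfl)]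
      exact Subgroup.one_mem _
    · have k1 := hk V (fn l) (fn (τ * l * τ⁻¹)) (fun x hx => by
        rw [fn_apply _ (hθV x hx), fn_apply _ hx, show (⟨θ x, hθV x hx⟩ : V) = τ ⟨x, hx⟩ from rfl, MulAut.mul_apply,
          MulAut.mul_apply, MulAut.inv_apply_self, hτ]) (mp_fn le_top hl)
      refine (mp_iff_autGroup le_top _).2 (k1.res fun y hy => ?_)
      obtain ⟨x, e⟩ := hφ.2 ⟨y, hy⟩
      exact ⟨x, x.2, congrArg Subtype.val e⟩
  have hMn : M.Normal := Subgroup.normal_of_index_eq_two hM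
  obtain ⟨f, k1, -, k2, -⟩ := thompson_involution hS hF (hh.ge.trans (hyperfocal_le_focal' F 2)) M
    (fun x _ y _ => by
      rw [mul_assoc, mul_assoc, Subgroup.mul_mem_iff_of_index_two hM, Subgroup.mul_mem_iff_of_index_two hM,
        Subgroup.mul_mem_iff_of_index_two hM, M.inv_mem_iff, M.inv_mem_iff]
      tauto)
    (fun x _ y _ hx hy _ _ => by
      rw [Subgroup.mul_mem_iff_of_index_two hM, M.inv_mem_iff]
      tauto) (Subgroup.mem_top v) (by rw [pow_two, hsq v hv]) V fun w hw => ⟨Subgroup.mem_top _, hc w hw v hv⟩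
  obtain ⟨α, k3, k4⟩ := k1.exists_aut (hmp f k1)
  obtain ⟨g, rfl⟩ := (hT _).1 (hle k3)
  rw [k4 v hv, hcj] at k2
  have k5 := hMn.conj_mem _ k2 g⁻¹
  rw [inv_inv, ← mul_assoc, ← mul_assoc, inv_mul_cancel, one_mul, inv_mul_cancel_right] at k5
  exact hvM k5

/-- A group in which the central elements are commutators and the other centralizers are abelian. -/
theorem not_dec_of {U : Subgroup A} (hh : hyp F = U)
    (h1 : ∀ z ∈ U, (∀ u ∈ U, z * u = u * z) → ∃ a ∈ U, ∃ b ∈ U, z = a * b * a⁻¹ * b⁻¹)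
    (h2 : ∀ a ∈ U, ∀ b ∈ U, a * b ≠ b * a → ∀ u ∈ U, ∀ w ∈ U, a * u = u * a → a * w = w * a → u * w = w * u) :
    ¬ Dec F := by
  have key : ∀ X Y : Subgroup A, Y ≠ ⊥ → X ⊓ Y = ⊥ → X ⊔ Y = U → (∀ x ∈ X, ∀ y ∈ Y, x * y = y * x) →
      ∃ u ∈ Y, ∃ w ∈ Y, u * w ≠ w * u := by
    intro X Y k1 k2 k3 k4
    by_contra k5
    push Not at k5
    have k6 : ∀ y ∈ Y, ∀ u ∈ U, y * u = u * y := fun y hy u hu => by
      have e : U ≤ Subgroup.centralizer {y} := k3 ▸ sup_le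
        (fun x hx => Subgroup.mem_centralizer_singleton_iff.2 (k4 x hx y hy))
        fun x hx => Subgroup.mem_centralizer_singleton_iff.2 (k5 x hx y hy)
      exact (Subgroup.mem_centralizer_singleton_iff.1 (e hu)).symm
    have k7 : ∀ u ∈ U, ∃ x ∈ X, ∃ y ∈ Y, u = x * y := fun u hu => by
      rw [← k3, Subgroup.sup_eq_closure] at hu
      induction hu using Subgroup.closure_induction with
      | mem g hg =>
        rcases hg with hg | hg
        exacts [⟨g, hg, 1, Y.one_mem, (mul_one g).symm⟩, ⟨1, X.one_mem, g, hg, (one_mul g).symm⟩]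
      | one => exact ⟨1, X.one_mem, 1, Y.one_mem, (mul_one 1).symm⟩
      | mul g h _ _ e1 e2 =>
        obtain ⟨x, hx, y, hy, rfl⟩ := e1
        obtain ⟨x', hx', y', hy', rfl⟩ := e2
        exact ⟨_, X.mul_mem hx hx', _, Y.mul_mem hy hy', by
          rw [mul_assoc, ← mul_assoc y, ← k4 x' hx' y hy, mul_assoc, mul_assoc]⟩
      | inv g _ e =>
        obtain ⟨x, hx, y, hy, rfl⟩ := e
        exact ⟨_, X.inv_mem hx, _, Y.inv_mem hy, by rw [mul_inv_rev, k4 _ (X.inv_mem hx) _ (Y.inv_mem hy)]⟩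
    refine k1 (eq_bot_iff.2 fun z hz => ?_)
    have hU : ∀ x ∈ X, x ∈ U := fun x hx => k3 ▸ Subgroup.mem_sup_left hx
    obtain ⟨a, ha, b, hb, e⟩ := h1 z (k3 ▸ Subgroup.mem_sup_right hz) (k6 z hz)
    obtain ⟨x, hx, y, hy, rfl⟩ := k7 a ha
    obtain ⟨x', hx', y', hy', rfl⟩ := k7 b hb
    have e1 : x * y * (x' * y') * (x * y)⁻¹ = x * x' * x⁻¹ * y' := by
      rw [mul_inv_rev, mul_assoc x y, k6 y hy _ hb, mul_assoc, mul_assoc, mul_inv_cancel_left, mul_assoc,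
        ← k4 _ (X.inv_mem hx) _ hy']
      group
    rw [← k2]
    refine ⟨?_, hz⟩
    rw [e, e1, mul_inv_rev, mul_assoc, mul_inv_cancel_left]
    exact X.mul_mem (X.mul_mem (X.mul_mem hx hx') (X.inv_mem hx)) (X.inv_mem hx')
  rintro ⟨X, Y, k1, k2, k3, k4, k5, -⟩
  rw [hh] at k4
  obtain ⟨u, hu, w, hw, e⟩ := key X Y k2 k3 k4 k5
  obtain ⟨a, ha, b, hb, e'⟩ := key Y X k1 (by rw [inf_comm, k3]) (by rw [sup_comm, k4])
    fun y hy x hx => (k5 x hx y hy).symm
  exact e (h2 a (k4 ▸ Subgroup.mem_sup_left ha) b (k4 ▸ Subgroup.mem_sup_left hb) e' u (k4 ▸ Subgroup.mem_sup_right hu) w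
    (k4 ▸ Subgroup.mem_sup_right hw) (k5 a ha u hu) (k5 a ha w hw))

end Cfsg.Agent.FS.N.L
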