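import Cfsg.Agent.FS.N.L.Main
import Cfsg.Agent.FS.N.D.Uni
import Cfsg.Agent.FS.N.G.Old
import Cfsg.Agent.FS.Real.TabS
import Cfsg.Agent.FS.N.M.E.eL342
import Cfsg.Agent.FS.N.M.E.eLa1
import Cfsg.Agent.FS.N.M.E.eLa3
import Cfsg.Agent.FS.N.M.E.eLb1
import Cfsg.Agent.FS.N.M.E.eLb2
import Cfsg.Agent.FS.N.M.E.eLb3
import Cfsg.Agent.FS.N.M.E.eLb5
import Cfsg.Agent.FS.N.M.E.eLb6
import Cfsg.Agent.FS.N.M.E.eLc3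
import Cfsg.Agent.FS.N.M.E.eLc4
import Cfsg.Agent.FS.N.M.E.eLc5
import Cfsg.Agent.FS.N.M.E.eLc9
import Cfsg.Agent.FS.N.M.E.eLd5
import Cfsg.Agent.FS.N.Sq.M12

/-!
# S5288, the box `Low`: the entries of the levels up to `7` (helper24, project FS)
-/

set_option autoImplicit false

namespace Cfsg.Agent.FS.N.L

open Cfsg Cfsg.Agent.FS.Real

theorem e_ent0 : LowE G.ent0 := lowE_of (W := W0) (by decide +kernel)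

theorem e_dD8_0 : LowE ⟨dD8, 0, 0⟩ := lowE_of (W := W0) (by decide +kernel)

theorem e_dD16_0 : LowE ⟨dD16, 0, 0⟩ := lowE_of (W := W0) (by decide +kernel)

theorem e_dD16_2 : LowE ⟨dD16, 2, 0⟩ := lowE_of (W := W0) (by decide +kernel)

theorem e_dQ16_0 : LowE ⟨dQ16, 0, 0⟩ := lowE_of (W := W0) (by decide +kernel)

theorem e_dQ16_1 : LowE ⟨dQ16, 1, 0⟩ := lowE_of (W := W0) (by decide +kernel)

theorem e_eLa1_1 : LowE ⟨M.eLa1, 1, 0⟩ := lowE_of (W := W0) (by decide +kernel)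

theorem e_dD32_0 : LowE ⟨dD32, 0, 0⟩ := lowE_of (W := W0) (by decide +kernel)

theorem e_dD32_2 : LowE ⟨dD32, 2, 0⟩ := lowE_of (W := W0) (by decide +kernel)

theorem e_dQ32_0 : LowE ⟨dQ32, 0, 0⟩ := lowE_of (W := W0) (by decide +kernel)

theorem e_dQ32_1 : LowE ⟨dQ32, 1, 0⟩ := lowE_of (W := W0) (by decide +kernel)

theorem e_dW32_0 : LowE ⟨dW32, 0, 0⟩ := lowE_of (W := W0) (by decide +kernel)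

theorem e_eLa3_1 : LowE ⟨M.eLa3, 1, 0⟩ := lowE_of (W := W0) (by decide +kernel)

theorem e_eLa3_2 : LowE ⟨M.eLa3, 2, 0⟩ := lowE_of (W := W0) (by decide +kernel)

theorem e_eLa3_3 : LowE ⟨M.eLa3, 3, 0⟩ := lowE_of (W := W0) (by decide +kernel)

theorem e_eLb3_1 : LowE ⟨M.eLb3, 1, 0⟩ := lowE_of (W := W0) (by decide +kernel)

theorem e_dD64_0 : LowE ⟨dD64, 0, 0⟩ := lowE_of (W := W0) (by decide +kernel)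

theorem e_dD64_2 : LowE ⟨dD64, 2, 0⟩ := lowE_of (W := W0) (by decide +kernel)

theorem e_dM12_0 : LowE ⟨dM12, 0, 0⟩ := lowE_of (W := W0) (by decide +kernel)

theorem e_dM12_13 : LowE ⟨dM12, 13, 0⟩ := lowE_of (W := W0) (by decide +kernel)

theorem e_dQ64_0 : LowE ⟨dQ64, 0, 0⟩ := lowE_of (W := W0) (by decide +kernel)

theorem e_dQ64_2 : LowE ⟨dQ64, 2, 0⟩ := lowE_of (W := W0) (by decide +kernel)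

theorem e_dU34_0 : LowE ⟨dU34, 0, 2⟩ := lowE_of (W := W0) (by decide +kernel)

theorem e_dU42_0 : LowE ⟨dU42, 0, 0⟩ := lowE_of (W := W0) (by decide +kernel)

theorem e_eLb1_1 : LowE ⟨M.eLb1, 1, 0⟩ := lowE_of (W := W0) (by decide +kernel)

theorem e_eLb2_1 : LowE ⟨M.eLb2, 1, 0⟩ := lowE_of (W := W0) (by decide +kernel)

theorem e_eLb6_1 : LowE ⟨M.eLb6, 1, 0⟩ := lowE_of (W := W0) (by decide +kernel)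

theorem e_eLb6_2 : LowE ⟨M.eLb6, 2, 0⟩ := lowE_of (W := W0) (by decide +kernel)

theorem e_eLb6_3 : LowE ⟨M.eLb6, 3, 0⟩ := lowE_of (W := W0) (by decide +kernel)

theorem e_eLc5_1 : LowE ⟨M.eLc5, 1, 0⟩ := lowE_of (W := W0) (by decide +kernel)

theorem e_dA10_0 : LowE ⟨dA10, 0, 0⟩ := lowE_of (W := W0) (by decide +kernel)

theorem e_dA10_2 : LowE ⟨dA10, 2, 0⟩ := lowE_of (W := W0) (by decide +kernel)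

theorem e_dD128_0 : LowE ⟨dD128, 0, 0⟩ := lowE_of (W := W0) (by decide +kernel)

theorem e_dD128_2 : LowE ⟨dD128, 2, 0⟩ := lowE_of (W := W0) (by decide +kernel)

theorem e_dJ2_0 : LowE ⟨dJ2, 0, 1⟩ := lowE_of (W := W0) (by decide +kernel)

theorem e_dJ2_60 : LowE ⟨dJ2, 60, 2⟩ := lowE_of (W := W0) (by decide +kernel)

theorem e_dM122_1 : LowE ⟨Sq.dM122, 1, 0⟩ := lowE_of (W := W0) (by decide +kernel)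

theorem e_dM22_0 : LowE ⟨dM22, 0, 0⟩ := lowE_of (W := W0) (by decide +kernel)

theorem e_dM22_4 : LowE ⟨dM22, 4, 2⟩ := lowE_of (W := W0) (by decide +kernel)

theorem e_dQ128_0 : LowE ⟨dQ128, 0, 0⟩ := lowE_of (W := W0) (by decide +kernel)

theorem e_dQ128_2 : LowE ⟨dQ128, 2, 0⟩ := lowE_of (W := W0) (by decide +kernel)

theorem e_dW128_0 : LowE ⟨dW128, 0, 0⟩ := lowE_of (W := W0) (by decide +kernel)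

theorem e_eL342_1 : LowE ⟨M.eL342, 1, 2⟩ := lowE_of (W := W0) (by decide +kernel)

theorem e_eLb5_1 : LowE ⟨M.eLb5, 1, 0⟩ := lowE_of (W := W0) (by decide +kernel)

theorem e_eLb5_4 : LowE ⟨M.eLb5, 4, 0⟩ := lowE_of (W := W0) (by decide +kernel)

theorem e_eLb5_5 : LowE ⟨M.eLb5, 5, 0⟩ := lowE_of (W := W0) (by decide +kernel)

theorem e_eLc3_1 : LowE ⟨M.eLc3, 1, 0⟩ := lowE_of (W := W0) (by decide +kernel)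

theorem e_eLc4_1 : LowE ⟨M.eLc4, 1, 0⟩ := lowE_of (W := W0) (by decide +kernel)

theorem e_eLc9_1 : LowE ⟨M.eLc9, 1, 0⟩ := lowE_of (W := W0) (by decide +kernel)

theorem e_eLc9_2 : LowE ⟨M.eLc9, 2, 0⟩ := lowE_of (W := W0) (by decide +kernel)

theorem e_eLc9_3 : LowE ⟨M.eLc9, 3, 0⟩ := lowE_of (W := W0) (by decide +kernel)

theorem e_eLd5_1 : LowE ⟨M.eLd5, 1, 0⟩ := lowE_of (W := W0) (by decide +kernel)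

/-- all entries of the levels `3` to `7` -/
def EL : List Ent :=
  [⟨dD8, 0, 0⟩, ⟨dD16, 0, 0⟩, ⟨dD16, 2, 0⟩, ⟨dQ16, 0, 0⟩, ⟨dQ16, 1, 0⟩, ⟨M.eLa1, 1, 0⟩,
    ⟨dD32, 0, 0⟩, ⟨dD32, 2, 0⟩, ⟨dQ32, 0, 0⟩, ⟨dQ32, 1, 0⟩, ⟨dW32, 0, 0⟩, ⟨M.eLa3, 1, 0⟩,
    ⟨M.eLa3, 2, 0⟩, ⟨M.eLa3, 3, 0⟩, ⟨M.eLb3, 1, 0⟩, ⟨dD64, 0, 0⟩, ⟨dD64, 2, 0⟩, ⟨dM12, 0, 0⟩,
    ⟨dM12, 13, 0⟩, ⟨dQ64, 0, 0⟩, ⟨dQ64, 2, 0⟩, ⟨dU34, 0, 2⟩, ⟨dU42, 0, 0⟩, ⟨M.eLb1, 1, 0⟩,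
    ⟨M.eLb2, 1, 0⟩, ⟨M.eLb6, 1, 0⟩, ⟨M.eLb6, 2, 0⟩, ⟨M.eLb6, 3, 0⟩, ⟨M.eLc5, 1, 0⟩, ⟨dA10, 0, 0⟩,
    ⟨dA10, 2, 0⟩, ⟨dD128, 0, 0⟩, ⟨dD128, 2, 0⟩, ⟨dJ2, 0, 1⟩, ⟨dJ2, 60, 2⟩, ⟨Sq.dM122, 1, 0⟩,
    ⟨dM22, 0, 0⟩, ⟨dM22, 4, 2⟩, ⟨dQ128, 0, 0⟩, ⟨dQ128, 2, 0⟩, ⟨dW128, 0, 0⟩, ⟨M.eL342, 1, 2⟩,
    ⟨M.eLb5, 1, 0⟩, ⟨M.eLb5, 4, 0⟩, ⟨M.eLb5, 5, 0⟩, ⟨M.eLc3, 1, 0⟩, ⟨M.eLc4, 1, 0⟩, ⟨M.eLc9, 1, 0⟩,
    ⟨M.eLc9, 2, 0⟩, ⟨M.eLc9, 3, 0⟩, ⟨M.eLd5, 1, 0⟩]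

theorem lowE_EL : ∀ p ∈ EL, LowE p := by
  simp only [EL, List.forall_mem_cons]
  exact ⟨e_dD8_0, e_dD16_0, e_dD16_2, e_dQ16_0, e_dQ16_1, e_eLa1_1, e_dD32_0, e_dD32_2, e_dQ32_0, e_dQ32_1,
    e_dW32_0, e_eLa3_1, e_eLa3_2, e_eLa3_3, e_eLb3_1, e_dD64_0, e_dD64_2, e_dM12_0, e_dM12_13, e_dQ64_0,
    e_dQ64_2, e_dU34_0, e_dU42_0, e_eLb1_1, e_eLb2_1, e_eLb6_1, e_eLb6_2, e_eLb6_3, e_eLc5_1, e_dA10_0,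
    e_dA10_2, e_dD128_0, e_dD128_2, e_dJ2_0, e_dJ2_60, e_dM122_1, e_dM22_0, e_dM22_4, e_dQ128_0, e_dQ128_2,
    e_dW128_0, e_eL342_1, e_eLb5_1, e_eLb5_4, e_eLb5_5, e_eLc3_1, e_eLc4_1, e_eLc9_1, e_eLc9_2, e_eLc9_3,
    e_eLd5_1, fun _ h => absurd h List.not_mem_nil⟩

/-- **`Low` from the levels `3` to `7`.** -/
theorem low_lev (h : ∀ n, 3 ≤ n → n ≤ 7 → ∃ L, Lev n L ∧ ∀ p ∈ L, LowE p) : Low dU34 := by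
  refine low_of D.boxD2 fun n hn => ?_
  rcases n with _ | _ | _ | n
  · exact ⟨_, G.lev0, List.forall_mem_singleton.2 e_ent0⟩
  · exact ⟨_, G.lev1, fun _ h => absurd h List.not_mem_nil⟩
  · exact ⟨_, G.lev2, fun _ h => absurd h List.not_mem_nil⟩
  · exact h _ (by omega) hn

theorem low_EL (h : ∀ n, 3 ≤ n → n ≤ 7 → ∃ L, Lev n L ∧ ∀ p ∈ L, p ∈ EL) : Low dU34 :=
  low_lev fun n h1 h2 => (h n h1 h2).imp fun _ k => ⟨k.1, fun p hp => lowE_EL p (k.2 p hp)⟩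

end Cfsg.Agent.FS.N.L
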